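import Mathlib.RingTheory.Flat.Basic
import Mathlib.RingTheory.TensorProduct.Maps
import Mathlib.LinearAlgebra.TensorProduct.Pi
import Mathlib.RingTheory.Ideal.Quotient.Operations
import Mathlib.RingTheory.Spectrum.Prime.RingHom

/-!
# Descent of ideals along finite flat families
-/

set_option autoImplicit false
set_option linter.all false

universe u

open TensorProduct

namespace GrothLib.IdealDescFpqc

variable {A : Type u} [CommRing A]

theorem mem_map_ker {B M : Type u} [CommRing B] [Algebra A B] [Module.Flat A B] [AddCommGroup M]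
    [Module A M] (φ : A →ₗ[A] M) (b : B) (h : b ⊗ₜ[A] φ 1 = 0) :
    b ∈ Ideal.map (algebraMap A B) (LinearMap.ker φ) := by
  obtain ⟨t, ht⟩ := (Module.Flat.lTensor_exact B (LinearMap.exact_subtype_ker_map φ) (b ⊗ₜ 1)).1
    (by simpa using h)
  have : b = TensorProduct.rid A B (b ⊗ₜ (1 : A)) := by simp
  rw [this, ← ht]
  clear ht this h
  induction t with
  | zero => simp
  | tmul c a =>
    simp only [LinearMap.lTensor_tmul, Submodule.subtype_apply, TensorProduct.rid_tmul,
      Algebra.smul_def]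
    exact Ideal.mul_mem_right _ _ (Ideal.mem_map_of_mem _ a.2)
  | add x y hx hy => simpa using Ideal.add_mem _ hx hy

theorem le_map_iInf_comap {κ : Type u} [Finite κ] (B : κ → Type u) [∀ k, CommRing (B k)]
    [∀ k, Algebra A (B k)] (C : Type u) [CommRing C] [Algebra A C] [Module.Flat A C]
    (I : ∀ k, Ideal (B k)) (K : Ideal C)
    (h : ∀ k, K.map (Algebra.TensorProduct.includeLeftRingHom : C →+* C ⊗[A] B k) ≤
      (I k).map (Algebra.TensorProduct.includeRight : B k →ₐ[A] C ⊗[A] B k).toRingHom) :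
    K ≤ (⨅ k, (I k).comap (algebraMap A (B k))).map (algebraMap A C) := by
  classical
  have := Fintype.ofFinite κ
  let φ : A →ₗ[A] (∀ k, B k ⧸ I k) := LinearMap.pi fun k => Algebra.linearMap A (B k ⧸ I k)
  have hker : (LinearMap.ker φ : Ideal A) = ⨅ k, (I k).comap (algebraMap A (B k)) := by
    ext a
    simp [φ, funext_iff, Ideal.mem_iInf, ← Ideal.Quotient.mk_algebraMap,
      Ideal.Quotient.eq_zero_iff_mem]
  intro x hx
  rw [← hker]
  refine mem_map_ker φ x ((TensorProduct.piRight A A C (fun k => B k ⧸ I k)).injective ?_)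
  rw [map_zero]
  funext k
  have hq : (I k).map (Algebra.TensorProduct.includeRight : B k →ₐ[A] C ⊗[A] B k).toRingHom ≤
      RingHom.ker (Algebra.TensorProduct.map (AlgHom.id A C)
        (Ideal.Quotient.mkₐ A (I k))).toRingHom := by
    rw [Ideal.map_le_iff_le_comap]
    intro b hb
    simp [RingHom.mem_ker, Ideal.Quotient.eq_zero_iff_mem.2 hb]
  have := RingHom.mem_ker.1 (hq (h k (Ideal.mem_map_of_mem _ hx)))
  simpa [φ] using this

theorem le_of_map_le {κ : Type u} (B : κ → Type u) [∀ k, CommRing (B k)]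
    [∀ k, Algebra A (B k)] [∀ k, Module.Flat A (B k)]
    (hsurj : ∀ p : PrimeSpectrum A, ∃ k, ∃ q : PrimeSpectrum (B k),
      PrimeSpectrum.comap (algebraMap A (B k)) q = p)
    {J J' : Ideal A} (h : ∀ k, J.map (algebraMap A (B k)) ≤ J'.map (algebraMap A (B k))) :
    J ≤ J' := by
  intro x hx
  let φ : A →ₗ[A] A ⧸ J' := LinearMap.toSpanSingleton A (A ⧸ J') (Ideal.Quotient.mk J' x)
  by_cases htop : (LinearMap.ker φ : Ideal A) = ⊤
  · have h1 : (1 : A) ∈ LinearMap.ker φ := by rw [htop]; trivial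
    simpa [φ, Ideal.Quotient.eq_zero_iff_mem] using h1
  · obtain ⟨m, hm, hle⟩ := Ideal.exists_le_maximal _ htop
    obtain ⟨k, q, hq⟩ := hsurj ⟨m, hm.isPrime⟩
    have hJ : J'.map (algebraMap A (B k)) ≤
        RingHom.ker (Algebra.TensorProduct.includeLeftRingHom : B k →+* B k ⊗[A] (A ⧸ J')) := by
      rw [Ideal.map_le_iff_le_comap]
      intro a ha
      simp [RingHom.mem_ker, Algebra.TensorProduct.tmul_one_eq_one_tmul,
        Ideal.Quotient.eq_zero_iff_mem.2 ha]
    have hx0 := RingHom.mem_ker.1 (hJ (h k (Ideal.mem_map_of_mem _ hx)))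
    have h1 : (1 : B k) ∈ Ideal.map (algebraMap A (B k)) (LinearMap.ker φ) := by
      refine mem_map_ker φ 1 ?_
      simpa [φ, Algebra.TensorProduct.tmul_one_eq_one_tmul] using hx0
    have h2 : Ideal.map (algebraMap A (B k)) (LinearMap.ker φ) ≤ q.asIdeal :=
      Ideal.map_le_iff_le_comap.2 (hle.trans (le_of_eq (congrArg PrimeSpectrum.asIdeal hq).symm))
    exact absurd ((Ideal.eq_top_iff_one _).2 (h2 h1)) q.isPrime.ne_top

end GrothLib.IdealDescFpqc
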