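import Groth.Agent.Lib.IdealDescFpqc.Algebra
import Groth.Agent.Lib.BlowUp.IdealComap
import Groth.Agent.Lib.ValPoint.Basic
import Groth.Agent.Lib.FpqcCov.Basic

/-!
# fpqc descent of closed subschemes
-/

set_option autoImplicit false
set_option linter.all false

universe u v

open CategoryTheory CategoryTheory.Limits AlgebraicGeometry TensorProduct Opposite

noncomputable section

namespace GrothLib.IdealDescFpqc

variable {P : Scheme.{u}} {ι : Type u} {Q : ι → Scheme.{u}} (g : ∀ i, Q i ⟶ P)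
  (I : ∀ i, (Q i).IdealSheafData)

/-- An affine piece of the family above an affine open of the base. -/
abbrev Piece (V : P.affineOpens) : Type u :=
  Σ i, {W : (Q i).affineOpens // W.1 ≤ g i ⁻¹ᵁ V.1}

variable {g}

/-- The ring map to a piece. -/
abbrev pieceMap {V : P.affineOpens} (s : Piece g V) : Γ(P, V.1) ⟶ Γ(Q s.1, s.2.1.1) :=
  (g s.1).appLE V.1 s.2.1.1 s.2.2

/-- The contraction to the base of the ideal of a piece. -/
def pieceIdeal {V : P.affineOpens} (s : Piece g V) : Ideal Γ(P, V.1) :=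
  ((I s.1).ideal s.2.1).comap (pieceMap s).hom

variable (g)

/-- The descended ideal on an affine open. -/
def descIdeal (V : P.affineOpens) : Ideal Γ(P, V.1) := ⨅ s : Piece g V, pieceIdeal I s

variable (hqc : QuasiCompactCover (PreZeroHypercover.mk ι Q g)) (hflat : ∀ i, Flat (g i))
  (hc : ∀ i j, (I i).comap (pullback.fst (g i) (g j)) = (I j).comap (pullback.snd (g i) (g j)))

include hqc in
theorem exists_pieces (V : P.affineOpens) : ∃ (n : ℕ) (s : ULift.{u} (Fin n) → Piece g V),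
    ∀ p : PrimeSpectrum Γ(P, V.1), ∃ (k : ULift.{u} (Fin n))
      (q : PrimeSpectrum Γ(Q (s k).1, (s k).2.1.1)),
      PrimeSpectrum.comap (pieceMap (s k)).hom q = p := by
  obtain ⟨n, idx, W, hW, heq⟩ := QuasiCompactCover.exists_isAffineOpen_of_isCompact
    (PreZeroHypercover.mk ι Q g) (U := V.1) V.2.isCompact
  have hle : ∀ k, W k ≤ g (idx k) ⁻¹ᵁ V.1 := fun k x hx => by
    show g (idx k) x ∈ (V.1 : Set P)
    rw [← heq]
    exact Set.mem_iUnion.2 ⟨k, x, hx, rfl⟩
  refine ⟨n, fun k => ⟨idx k.down, ⟨W k.down, hW k.down⟩, hle k.down⟩, fun p => ?_⟩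
  have hp : V.2.fromSpec p ∈ (V.1 : Set P) := V.2.range_fromSpec.le ⟨p, rfl⟩
  rw [← heq] at hp
  obtain ⟨k, x, hx, hxy⟩ := Set.mem_iUnion.1 hp
  have hxr : x ∈ Set.range (hW k).fromSpec := by rw [(hW k).range_fromSpec]; exact hx
  obtain ⟨q, rfl⟩ := hxr
  haveI := V.2.isOpenImmersion_fromSpec
  refine ⟨⟨k⟩, q, V.2.fromSpec.isOpenEmbedding.injective ?_⟩
  show (Spec.map ((g (idx k)).appLE V.1 (W k) (hle k)) ≫ V.2.fromSpec) q = V.2.fromSpec p
  rw [IsAffineOpen.SpecMap_appLE_fromSpec (g (idx k)) V.2 (hW k) (hle k)]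
  exact hxy

include hflat in
theorem flat_pieceMap {V : P.affineOpens} (s : Piece g V) : (pieceMap s).hom.Flat :=
  haveI := hflat s.1
  (g s.1).flat_appLE V.2 s.2.1.2 s.2.2

include hqc hflat in
theorem le_of_forall_map_le (V : P.affineOpens) {J J' : Ideal Γ(P, V.1)}
    (h : ∀ s : Piece g V, J.map (pieceMap s).hom ≤ J'.map (pieceMap s).hom) : J ≤ J' := by
  obtain ⟨n, s, hs⟩ := exists_pieces g hqc V
  letI : ∀ k, Algebra Γ(P, V.1) Γ(Q (s k).1, (s k).2.1.1) :=
    fun k => (pieceMap (s k)).hom.toAlgebra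
  haveI : ∀ k, Module.Flat Γ(P, V.1) Γ(Q (s k).1, (s k).2.1.1) :=
    fun k => flat_pieceMap g hflat (s k)
  exact le_of_map_le (fun k => Γ(Q (s k).1, (s k).2.1.1)) hs (fun k => h (s k))

include hc in
theorem cocycle {V : P.affineOpens} (s t : Piece g V) :
    letI := (pieceMap s).hom.toAlgebra
    letI := (pieceMap t).hom.toAlgebra
    ((I s.1).ideal s.2.1).map (Algebra.TensorProduct.includeLeftRingHom :
        Γ(Q s.1, s.2.1.1) →+* Γ(Q s.1, s.2.1.1) ⊗[Γ(P, V.1)] Γ(Q t.1, t.2.1.1)) =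
      ((I t.1).ideal t.2.1).map (Algebra.TensorProduct.includeRight :
        Γ(Q t.1, t.2.1.1) →ₐ[Γ(P, V.1)]
          Γ(Q s.1, s.2.1.1) ⊗[Γ(P, V.1)] Γ(Q t.1, t.2.1.1)).toRingHom := by
  letI := (pieceMap s).hom.toAlgebra
  letI := (pieceMap t).hom.toAlgebra
  let T : CommRingCat.{u} := .of (Γ(Q s.1, s.2.1.1) ⊗[Γ(P, V.1)] Γ(Q t.1, t.2.1.1))
  let a : Γ(Q s.1, s.2.1.1) ⟶ T := CommRingCat.ofHom Algebra.TensorProduct.includeLeftRingHom
  let b : Γ(Q t.1, t.2.1.1) ⟶ T :=
    CommRingCat.ofHom (Algebra.TensorProduct.includeRight (R := Γ(P, V.1))).toRingHom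
  have hab : pieceMap s ≫ a = pieceMap t ≫ b := by
    ext r
    exact Algebra.TensorProduct.tmul_one_eq_one_tmul r
  have w : (Spec.map a ≫ s.2.1.2.fromSpec) ≫ g s.1 = (Spec.map b ≫ t.2.1.2.fromSpec) ≫ g t.1 := by
    rw [Category.assoc, Category.assoc,
      ← IsAffineOpen.SpecMap_appLE_fromSpec (g s.1) V.2 s.2.1.2 s.2.2,
      ← IsAffineOpen.SpecMap_appLE_fromSpec (g t.1) V.2 t.2.1.2 t.2.2,
      ← Spec.map_comp_assoc, ← Spec.map_comp_assoc]
    exact congrArg (fun f => Spec.map f ≫ V.2.fromSpec) hab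
  have e := congrArg (fun K : (pullback (g s.1) (g t.1)).IdealSheafData =>
    (K.comap (pullback.lift _ _ w)).ideal ⟨⊤, isAffineOpen_top _⟩) (hc s.1 t.1)
  simp only [← Scheme.IdealSheafData.comap_comp, pullback.lift_fst, pullback.lift_snd,
    ValPoint.ideal_comap_specMap_fromSpec] at e
  have hbij := ConcreteCategory.bijective_of_isIso (Scheme.ΓSpecIso T).inv
  have e2 := congrArg (Ideal.comap (Scheme.ΓSpecIso T).inv.hom) e
  rwa [Ideal.comap_map_of_bijective _ hbij, Ideal.comap_map_of_bijective _ hbij] at e2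

include hqc hflat hc in
theorem map_descIdeal {V : P.affineOpens} (t : Piece g V) :
    (descIdeal g I V).map (pieceMap t).hom = (I t.1).ideal t.2.1 := by
  refine le_antisymm (Ideal.map_le_iff_le_comap.2 (iInf_le _ t)) ?_
  obtain ⟨n, s, hs⟩ := exists_pieces g hqc V
  letI : ∀ r : Piece g V, Algebra Γ(P, V.1) Γ(Q r.1, r.2.1.1) := fun r => (pieceMap r).hom.toAlgebra
  haveI : ∀ r : Piece g V, Module.Flat Γ(P, V.1) Γ(Q r.1, r.2.1.1) := fun r => flat_pieceMap g hflat r
  have key : ∀ (κ : Type u) [Finite κ] (e : κ → Piece g V) (r : Piece g V),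
      (I r.1).ideal r.2.1 ≤ (⨅ k, pieceIdeal I (e k)).map (pieceMap r).hom :=
    fun κ _ e r => le_map_iInf_comap (fun k => Γ(Q (e k).1, (e k).2.1.1)) Γ(Q r.1, r.2.1.1)
      (fun k => (I (e k).1).ideal (e k).2.1) ((I r.1).ideal r.2.1)
      (fun k => (cocycle g I hc r (e k)).le)
  refine (key _ s t).trans (Ideal.map_mono (le_iInf fun r => ?_))
  let e : Option (ULift.{u} (Fin n)) → Piece g V := fun o => o.elim r s
  refine le_trans ?_ (iInf_le (fun o => pieceIdeal I (e o)) none)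
  refine le_of_map_le (fun k => Γ(Q (s k).1, (s k).2.1.1)) hs fun k => ?_
  exact (Ideal.map_le_iff_le_comap.2 (iInf_le (fun k => pieceIdeal I (s k)) k)).trans
    (key _ e (s k))

/-- The descended ideal sheaf. -/
def desc : P.IdealSheafData where
  ideal := descIdeal g I
  map_ideal_basicOpen U f := by
    have key : ∀ r : Piece g (P.affineBasicOpen f),
        ((descIdeal g I U).map
          (P.presheaf.map (homOfLE <| P.basicOpen_le f).op).hom).map (pieceMap r).hom =
          (descIdeal g I (P.affineBasicOpen f)).map (pieceMap r).hom := fun r => by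
      have e : P.presheaf.map (homOfLE <| P.basicOpen_le f).op ≫ pieceMap r =
          pieceMap (V := U) ⟨r.1, r.2.1, r.2.2.trans fun x hx => P.basicOpen_le f hx⟩ :=
        Scheme.Hom.map_appLE (g r.1) r.2.2 (homOfLE <| P.basicOpen_le f).op
      refine ((Ideal.map_map _ _).trans ?_).trans (map_descIdeal g I hqc hflat hc r).symm
      exact (congrArg (fun φ => Ideal.map (CommRingCat.Hom.hom φ) (descIdeal g I U)) e).trans
        (map_descIdeal g I hqc hflat hc (V := U) _)
    exact le_antisymm (le_of_forall_map_le g hqc hflat _ fun r => (key r).le)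
      (le_of_forall_map_le g hqc hflat _ fun r => (key r).ge)

include hqc hflat hc in
theorem existsUnique : ∃! J : P.IdealSheafData, ∀ i, J.comap (g i) = I i := by
  refine ⟨desc g I hqc hflat hc, fun i => ?_, fun J hJ => Scheme.IdealSheafData.ext (funext fun V => ?_)⟩
  · refine Scheme.IdealSheafData.ext_of_iSup_eq_top
      (fun w : {w : P.affineOpens × (Q i).affineOpens // w.2.1 ≤ g i ⁻¹ᵁ w.1.1} => w.1.2)
      (eq_top_iff.2 fun x _ => ?_) fun w => ?_
    · obtain ⟨_, ⟨V, hV, rfl⟩, hxV, -⟩ := P.isBasis_affineOpens.exists_subset_of_mem_open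
        (Set.mem_univ (g i x)) isOpen_univ
      obtain ⟨_, ⟨W, hW, rfl⟩, hxW, hWV⟩ := (Q i).isBasis_affineOpens.exists_subset_of_mem_open
        (show x ∈ ((g i ⁻¹ᵁ V : (Q i).Opens) : Set (Q i)) from hxV) (g i ⁻¹ᵁ V).2
      exact TopologicalSpace.Opens.mem_iSup.2 ⟨⟨(⟨V, hV⟩, ⟨W, hW⟩), hWV⟩, hxW⟩
    · rw [BlowUp.ideal_comap_eq_map _ (g i) w.1.1 w.1.2 w.2]
      exact map_descIdeal g I hqc hflat hc ⟨i, w.1.2, w.2⟩
  · have key : ∀ r : Piece g V,
        (J.ideal V).map (pieceMap r).hom = (descIdeal g I V).map (pieceMap r).hom := fun r => by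
      rw [map_descIdeal g I hqc hflat hc r, ← hJ r.1,
        BlowUp.ideal_comap_eq_map _ (g r.1) V r.2.1 r.2.2]
    exact le_antisymm (le_of_forall_map_le g hqc hflat _ fun r => (key r).le)
      (le_of_forall_map_le g hqc hflat _ fun r => (key r).ge)

end GrothLib.IdealDescFpqc
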